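import Cfsg.Agent.H95.BlockMax

/-!
Stabilisers of three independent lines are maximal in `SL_3`, fields with at least five elements.
-/

set_option autoImplicit false

open Cfsg

namespace Cfsg.Agent.H26.SLThreeGeo

open scoped MatrixGroups Matrix
open Matrix Cfsg.Agent.H95

variable {ι : Type} [Fintype ι] [DecidableEq ι] {F : Type*} [Field F]

set_option linter.unusedSectionVars false

attribute [-simp] Matrix.coe_units_inv

lemma exists_good_cube [Fintype F] (hq : 5 ≤ Fintype.card F) :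
    ∃ x : Fˣ, (x : F) ^ 3 ≠ 1 ∧ (x : F) ^ 3 + 2 ≠ 0 ∧ (x : F) ^ 6 + (x : F) ^ 3 + 1 ≠ 0 := by
  by_cases h2 : (2 : F) = 0
  · obtain ⟨x, hx⟩ : ∃ x : Fˣ, x ^ 9 ≠ 1 := by
      by_contra hcon
      push Not at hcon
      obtain ⟨g, hg⟩ := IsCyclic.exists_generator (α := Fˣ)
      have h1 : orderOf g ∣ 9 := orderOf_dvd_of_pow_eq_one (hcon g)
      rw [orderOf_eq_card_of_forall_mem_zpowers hg, Nat.card_units, Nat.card_eq_fintype_card] at h1
      obtain ⟨p, hp⟩ := CharP.exists F
      obtain ⟨n, hpp, hn⟩ := FiniteField.card F p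
      have hp2 : p ∣ 2 := (CharP.cast_eq_zero_iff F p 2).1 (by exact_mod_cast h2)
      rw [(Nat.prime_dvd_prime_iff_eq hpp Nat.prime_two).1 hp2] at hn
      have h9 : Fintype.card F - 1 ≤ 9 := Nat.le_of_dvd (by norm_num) h1
      have hn3 : (n : ℕ) ≤ 3 := by
        by_contra hlt
        have : 2 ^ 4 ≤ 2 ^ (n : ℕ) := Nat.pow_le_pow_right (by norm_num) (by omega)
        omega
      rw [hn] at h1 hq
      generalize (n : ℕ) = m at hn3 h1 hq
      interval_cases m <;> revert h1 hq <;> norm_num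
    have hx' : (x : F) ^ 9 ≠ 1 := fun e => hx (Units.ext (by simpa using e))
    refine ⟨x, fun e => hx' ?_, ?_, fun e => hx' ?_⟩
    · linear_combination ((x : F) ^ 6 + (x : F) ^ 3 + 1) * e
    · rw [h2, add_zero]; exact pow_ne_zero _ x.ne_zero
    · linear_combination ((x : F) ^ 3 - 1) * e
  · refine ⟨-1, ?_, ?_, ?_⟩ <;> rw [Units.val_neg, Units.val_one]
    · exact fun e => h2 (by linear_combination -e)
    · norm_num
    · norm_num

section

variable [Fintype F] {G : Subgroup (GL ι F)}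
  (hmp : ∀ σ c x, (mp σ c : Matrix ι ι F).det = x ^ 3 → mp σ c ∈ G) (hι : Fintype.card ι = 3)
include hmp hι

lemma inDl_cube (i : ι) (x : Fˣ) : InDl G (Pi.single i 1) (Pi.single i 1) (x ^ 3) := by
  refine ⟨by simp, ?_⟩
  convert hmp 1 (Function.update 1 i (x ^ 3)) (x : F) ?_ using 1
  · refine gl_ext fun z => ?_
    ext r
    rw [dl_mulVec, mp_apply]
    rcases eq_or_ne r i with rfl | h
    · simp; ring
    · simp [h]
  · rw [mp_det, Equiv.Perm.sign_one, Units.val_one, Int.cast_one, mul_one,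
      Finset.prod_eq_single i (fun r _ hr => by simp [hr]) (by simp)]
    simp

lemma cube_mem (r : ι) (x : Fˣ) : mp 1 (Function.update 1 r (x ^ 3)) ∈ G := by
  refine hmp _ _ (x : F) ?_
  rw [mp_det, Equiv.Perm.sign_one, Units.val_one, Int.cast_one, mul_one,
    Finset.prod_eq_single r (fun t _ ht => by simp [ht]) (by simp)]
  simp

lemma hasElem_of_centre {x : Fˣ} (hx : (x : F) ^ 3 ≠ 1) {u φ : ι → F} (h : InTv G u φ) {r : ι}
    (hu : u r ≠ 0) (hφr : φ r = 0) (hφ : φ ≠ 0) : HasElem G := by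
  set ν : Fˣ := x ^ 3 with hν'
  have hν : (ν : F) ≠ 1 := by rw [hν', Units.val_pow_eq_pow_val]; exact hx
  have h1 := h.conj (cube_mem hmp hι r x)
  have e1 : φ ᵥ* (((mp 1 (Function.update 1 r ν))⁻¹ : GL ι F) : Matrix ι ι F) = φ := by
    rw [vecMul_mp_inv]
    ext k
    rcases eq_or_ne k r with rfl | hk
    · simp [hφr]
    · simp [hk]
  rw [← hν', e1] at h1
  have h2 := h1.sub_left h
  rw [mp_one_single (fun _ => ν) r u, add_sub_cancel_left] at h2
  obtain ⟨m, hm⟩ := Function.ne_iff.1 hφ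
  rw [Pi.zero_apply] at hm
  have hmr : m ≠ r := by rintro rfl; exact hm hφr
  have h3 := h2.conj (cube_mem hmp hι m x)
  rw [← hν', mp_one_single (fun _ => ν) m, Pi.smul_apply, Pi.single_eq_of_ne hmr, smul_zero,
    mul_zero, zero_smul, add_zero] at h3
  have h4 := h3.sub_right h2
  have e4 : φ ᵥ* (((mp 1 (Function.update 1 m ν))⁻¹ : GL ι F) : Matrix ι ι F) - φ =
      (φ m / (ν : F) - φ m) • Pi.single m 1 := by
    rw [vecMul_mp_inv]
    ext k
    rcases eq_or_ne k m with rfl | hk
    · simp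
    · simp [hk]
  rw [e4] at h4
  have h5 := inTv_smul_left h4 (by simp [hmr])
  rw [smul_smul] at h5
  refine ⟨r, m, hmr.symm, _, ?_, h5⟩
  refine mul_ne_zero (fun h0 => hν ?_) (mul_ne_zero (sub_ne_zero.2 hν) hu)
  rw [sub_eq_zero, div_eq_iff ν.ne_zero] at h0
  exact (mul_right_eq_self₀.1 h0.symm).resolve_right hm

/-- In a full column all products with the inverse row agree. -/
lemma products_eq (hno : ¬ HasElem G) {x : Fˣ} (hx : (x : F) ^ 3 ≠ 1) {h : GL ι F} (hh : h ∈ G)
    {i a b k : ι} (hab : a ≠ b) (hka : k ≠ a) (hkb : k ≠ b) (ha : (h : Matrix ι ι F) a i ≠ 0)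
    (hb : (h : Matrix ι ι F) b i ≠ 0) (hk : (h : Matrix ι ι F) k i ≠ 0) :
    (h : Matrix ι ι F) a i * ((h⁻¹ : GL ι F) : Matrix ι ι F) i a =
      (h : Matrix ι ι F) b i * ((h⁻¹ : GL ι F) : Matrix ι ι F) i b := by
  by_contra hne
  have h1 : InDl G (fun r => (h : Matrix ι ι F) r i)
      (fun r => ((h⁻¹ : GL ι F) : Matrix ι ι F) i r) (x ^ 3) := by
    convert (inDl_cube hmp hι i x).conj hh using 1
    · ext r; simp
    · ext r; simp
  set c : ι → Fˣ := Function.update (Function.update 1 a (Units.mk0 _ (div_ne_zero ha hb))) b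
    (Units.mk0 _ (div_ne_zero hb ha)) with hc
  have h2 := h1.conj (hmp (Equiv.swap a b) c (-1) (by
    rw [mp_det, Equiv.Perm.sign_swap hab, Finset.prod_eq_mul a b hab
      (fun r _ hr => by simp [hc, hr.1, hr.2]) (by simp) (by simp), hc]
    simp [hab]
    field_simp
    try ring))
  have e1 : (mp (Equiv.swap a b) c : Matrix ι ι F) *ᵥ (fun r => (h : Matrix ι ι F) r i) =
      fun r => (h : Matrix ι ι F) r i := by
    ext r
    rw [mp_apply, hc]
    by_cases hra : r = a
    · subst hra; simp [hab]; field_simp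
    by_cases hrb : r = b
    · subst hrb; simp; field_simp
    · simp [hra, hrb, Equiv.swap_apply_of_ne_of_ne]
  rw [e1] at h2
  have h3 := h1.tv_right h2
  refine hno (hasElem_of_centre hmp hι hx h3 (r := k) ?_ ?_ fun e => hne ?_)
  · simp only [Pi.smul_apply, smul_eq_mul, Units.val_pow_eq_pow_val]
    exact mul_ne_zero (sub_ne_zero.2 hx) hk
  · rw [vecMul_mp_inv, hc]
    simp [hka, hkb, Equiv.swap_apply_of_ne_of_ne hka hkb]
  · have := congrFun e a
    rw [vecMul_mp_inv, hc] at this
    simp [hab, sub_eq_zero] at this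
    rw [← this]
    field_simp

/-- A full column gives an elementary transvection. -/
lemma hasElem_of_full {x : Fˣ} (hx : (x : F) ^ 3 ≠ 1) (hx2 : (x : F) ^ 3 + 2 ≠ 0)
    (hx3 : (x : F) ^ 6 + (x : F) ^ 3 + 1 ≠ 0) {h : GL ι F} (hh : h ∈ G) {i : ι}
    (hfull : ∀ r, (h : Matrix ι ι F) r i ≠ 0) : HasElem G := by
  classical
  by_contra hno
  obtain ⟨l, r, hlr⟩ := Fintype.exists_pair_of_one_lt_card (α := ι) (by omega)
  obtain ⟨s, -, hs⟩ := Finset.exists_mem_notMem_of_card_lt_card
    (s := ({l, r} : Finset ι)) (t := Finset.univ)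
    (lt_of_le_of_lt Finset.card_le_two (by rw [Finset.card_univ]; omega))
  simp at hs
  have huniv : (Finset.univ : Finset ι) = {l, r, s} := (Finset.eq_univ_of_card _ (by
    rw [Finset.card_insert_of_notMem (by simp [hlr, Ne.symm hs.1]),
      Finset.card_pair (Ne.symm hs.2), hι])).symm
  set u := fun t => (h : Matrix ι ι F) t i with hu
  set α := fun t => ((h⁻¹ : GL ι F) : Matrix ι ι F) i t with hα
  have hlr' : u l * α l = u r * α r :=
    products_eq hmp hι hno hx hh hlr hs.1 hs.2 (hfull l) (hfull r) (hfull s)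
  have hls : u l * α l = u s * α s := products_eq hmp hι hno hx hh (Ne.symm hs.1) hlr.symm
    (Ne.symm hs.2) (hfull l) (hfull s) (hfull r)
  have hsum : 3 * (u l * α l) = 1 := by
    have h1 := gl_entry_sum h⁻¹ i i
    rw [inv_inv, if_pos rfl, huniv, Finset.sum_insert (by simp [hlr, Ne.symm hs.1]),
      Finset.sum_pair (Ne.symm hs.2)] at h1
    linear_combination h1 + hlr' + hls
  have hαl : α l ≠ 0 := fun e => by rw [e, mul_zero, mul_zero] at hsum; exact zero_ne_one hsum
  obtain ⟨h0, hd⟩ : InDl G u α (x ^ 3) := by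
    convert (inDl_cube hmp hι i x).conj hh using 1
    · ext t; simp [hu]
    · ext t; simp [hα]
  set d := dl u α (x ^ 3) h0 with hd'
  have hde : ∀ t, (d : Matrix ι ι F) t l =
      (if t = l then 1 else 0) + ((x : F) ^ 3 - 1) * α l * u t := by
    intro t
    refine (mulVec_single_one_apply _ l t).symm.trans ?_
    rw [hd', dl_mulVec]
    simp [Pi.single_apply]
  have hdi : ∀ t, ((d⁻¹ : GL ι F) : Matrix ι ι F) l t =
      (if l = t then 1 else 0) + (((x : F) ^ 3)⁻¹ - 1) * α t * u l := by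
    intro t
    refine (mulVec_single_one_apply _ t l).symm.trans ?_
    rw [hd', dl_inv, dl_mulVec]
    simp [Pi.single_apply]
  have hdl : (d : Matrix ι ι F) l l ≠ 0 := by
    rw [hde, if_pos rfl]
    intro e
    apply hx2
    linear_combination 3 * e - ((x : F) ^ 3 - 1) * hsum
  have hdt : ∀ t, t ≠ l → (d : Matrix ι ι F) t l ≠ 0 := fun t ht => by
    rw [hde, if_neg ht, zero_add]
    exact mul_ne_zero (mul_ne_zero (sub_ne_zero.2 hx) hαl) (hfull t)
  have heq := products_eq hmp hι hno hx hd hlr hs.1 hs.2 hdl (hdt r hlr.symm) (hdt s hs.1)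
  rw [hde, hdi, hde, hdi, if_pos rfl, if_neg hlr.symm, if_neg hlr] at heq
  apply hx3
  have h30 : (3 : F) ≠ 0 := fun e => by rw [e, zero_mul] at hsum; exact zero_ne_one hsum
  have hx0 : (x : F) ≠ 0 := x.ne_zero
  have hP : u l * α l = 3⁻¹ := eq_inv_of_mul_eq_one_right hsum
  have h4 : (1 + ((x : F) ^ 3 - 1) * 3⁻¹) * (1 + (((x : F) ^ 3)⁻¹ - 1) * 3⁻¹) =
      ((x : F) ^ 3 - 1) * (((x : F) ^ 3)⁻¹ - 1) * (3⁻¹ * 3⁻¹) := by
    have e2 : ((x : F) ^ 3 - 1) * α l * u r * ((((x : F) ^ 3)⁻¹ - 1) * α r * u l) =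
        ((x : F) ^ 3 - 1) * (((x : F) ^ 3)⁻¹ - 1) * ((u l * α l) * (u r * α r)) := by ring
    rw [← hlr', hP] at e2
    rw [← hP]
    rw [← hP] at e2
    linear_combination heq + e2
  field_simp at h4
  refine mul_left_cancel₀ h30 ?_
  linear_combination h4

/-- The main lemma for monomial matrices. -/
theorem hasElem_three (hq : 5 ≤ Fintype.card F) {g : GL ι F} (hg : g ∈ G) (hm : ¬ IsMono g) :
    HasElem G := by
  classical
  obtain ⟨x, hx, hx2, hx3⟩ := exists_good_cube hq
  obtain ⟨i, a, b, hab, ha, hb⟩ := exists_two_of_not_isMono hm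
  obtain ⟨r, -, hr⟩ := Finset.exists_mem_notMem_of_card_lt_card
    (s := ({a, b} : Finset ι)) (t := Finset.univ)
    (lt_of_le_of_lt Finset.card_le_two (by rw [Finset.card_univ]; omega))
  simp at hr
  have huniv : ∀ t, t = a ∨ t = b ∨ t = r := by
    have h : (Finset.univ : Finset ι) = {a, b, r} := (Finset.eq_univ_of_card _ (by
      rw [Finset.card_insert_of_notMem (by simp [hab, Ne.symm hr.1]),
        Finset.card_pair (Ne.symm hr.2), hι])).symm
    intro t
    simpa [h] using Finset.mem_univ t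
  by_cases hri : (g : Matrix ι ι F) r i = 0
  swap
  · refine hasElem_of_full hmp hι hx hx2 hx3 hg (i := i) fun t => ?_
    rcases huniv t with rfl | rfl | rfl <;> assumption
  obtain ⟨k, hk⟩ : ∃ k, (g : Matrix ι ι F) r k ≠ 0 := by
    by_contra hcon
    push Not at hcon
    have h1 := gl_entry_sum g r r
    rw [if_pos rfl, Finset.sum_eq_zero fun t _ => by rw [hcon t, zero_mul]] at h1
    exact zero_ne_one h1
  have hki : k ≠ i := fun e => hk (e ▸ hri)
  -- a scalar avoiding two values
  obtain ⟨t, -, ht⟩ := Finset.exists_mem_notMem_of_card_lt_card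
    (s := ({0, -(g : Matrix ι ι F) a i / (g : Matrix ι ι F) a k,
      -(g : Matrix ι ι F) b i / (g : Matrix ι ι F) b k} : Finset F)) (t := Finset.univ)
    (lt_of_le_of_lt Finset.card_le_three (by rw [Finset.card_univ]; omega))
  simp at ht
  obtain ⟨σ, hσi, hσk⟩ : ∃ σ : Equiv.Perm ι, σ i = a ∧ σ k = b := by
    refine ⟨Equiv.swap b (Equiv.swap a i k) * Equiv.swap a i, ?_, ?_⟩
    · rw [Equiv.Perm.mul_apply, Equiv.swap_apply_right, Equiv.swap_apply_of_ne_of_ne hab]
      intro e
      exact hki ((Equiv.swap a i).injective (by rw [Equiv.swap_apply_right]; exact e.symm))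
    · rw [Equiv.Perm.mul_apply, Equiv.swap_apply_right]
  obtain ⟨j, -, hj⟩ := Finset.exists_mem_notMem_of_card_lt_card
    (s := ({i, k} : Finset ι)) (t := Finset.univ)
    (lt_of_le_of_lt Finset.card_le_two (by rw [Finset.card_univ]; omega))
  simp at hj
  set ε : Fˣ := Units.map (Int.castRingHom F).toMonoidHom (Equiv.Perm.sign σ) with hε
  set ci : Fˣ := Units.mk0 _ (inv_ne_zero ha)
  set ck : Fˣ := Units.mk0 (t / (g : Matrix ι ι F) b i) (div_ne_zero ht.1 hb)
  set c : ι → Fˣ := Function.update (Function.update (Function.update 1 i ci) k ck) j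
    (ε * ci * ck)⁻¹ with hc
  have hmem : mp σ c ∈ G := by
    refine hmp _ _ 1 ?_
    have huniv' : (Finset.univ : Finset ι) = {i, k, j} := (Finset.eq_univ_of_card _ (by
      rw [Finset.card_insert_of_notMem (by simp [Ne.symm hki, Ne.symm hj.1]),
        Finset.card_pair (Ne.symm hj.2), hι])).symm
    rw [mp_det, huniv', Finset.prod_insert (by simp [Ne.symm hki, Ne.symm hj.1]),
      Finset.prod_pair (Ne.symm hj.2),
      show ((Equiv.Perm.sign σ : ℤ) : F) = (ε : F) by simp [hε]]
    simp only [hc, Function.update_self, Function.update_of_ne (Ne.symm hj.1),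
      Function.update_of_ne (Ne.symm hj.2), Function.update_of_ne (Ne.symm hki), one_pow]
    rw [← Units.val_mul, ← Units.val_mul, ← Units.val_mul, ← Units.val_one]
    congr 1
    group
    try simp [mul_comm, mul_left_comm, mul_assoc]
  refine hasElem_of_full hmp hι hx hx2 hx3 (G.mul_mem (G.mul_mem hg hmem) hg) (i := i) fun s => ?_
  have hval : ((g * mp σ c * g : GL ι F) : Matrix ι ι F) s i =
      (g : Matrix ι ι F) s i + t * (g : Matrix ι ι F) s k := by
    refine (mulVec_single_one_apply _ i s).symm.trans ?_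
    rw [mul_mulVec, mul_mulVec]
    have e : (mp σ c : Matrix ι ι F) *ᵥ ((g : Matrix ι ι F) *ᵥ Pi.single i 1) =
        Pi.single i 1 + t • Pi.single k 1 := by
      ext z
      rw [mp_apply, mulVec_single_one_apply]
      rcases eq_or_ne z i with rfl | hzi
      · simp [hc, hσi, Ne.symm hki, Ne.symm hj.1, ci, ha]
      rcases eq_or_ne z k with rfl | hzk
      · simp [hc, hσk, hzi, Ne.symm hj.2, ck, hb]
      have : σ z = r := by
        rcases huniv (σ z) with h | h | h
        · exact absurd (σ.injective (h.trans hσi.symm)) hzi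
        · exact absurd (σ.injective (h.trans hσk.symm)) hzk
        · exact h
      simp [this, hri, hzi, hzk]
    rw [e, mulVec_add, mulVec_smul, Pi.add_apply, Pi.smul_apply, mulVec_single_one_apply,
      mulVec_single_one_apply, smul_eq_mul]
  rw [hval]
  rcases huniv s with rfl | rfl | rfl
  · intro e
    rcases eq_or_ne ((g : Matrix ι ι F) s k) 0 with h0 | h0
    · rw [h0, mul_zero, add_zero] at e; exact ha e
    · exact ht.2.1 (by rw [eq_div_iff h0]; linear_combination e)
  · intro e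
    rcases eq_or_ne ((g : Matrix ι ι F) s k) 0 with h0 | h0
    · rw [h0, mul_zero, add_zero] at e; exact hb e
    · exact ht.2.2 (by rw [eq_div_iff h0]; linear_combination e)
  · rw [hri, zero_add]; exact mul_ne_zero ht.1 hk

end

/-- Stabilisers of frames in dimension three. -/
theorem specialLinear_le_of_lines_three [Fintype F] {t : ℕ} {D : Fin t → Submodule F (ι → F)}
    (hD : Geo.IsMDecomposition 1 D) (hq : 5 ≤ Fintype.card F) (hι : Fintype.card ι = 3)
    {M : Subgroup (GL ι F)}
    (hSM : Geo.decompositionStabilizer D ⊓ Geo.specialLinear ι F ≤ M)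
    (hSL : M ≤ Geo.specialLinear ι F) {g : GL ι F} (hg : g ∈ M)
    (hgD : g ∉ Geo.decompositionStabilizer D) : Geo.specialLinear ι F ≤ M := by
  classical
  obtain ⟨e, P, hP⟩ := exists_adapted hD
  have hconj : ∀ π c, P * mp π c * P⁻¹ ∈ Geo.decompositionStabilizer D := fun π c => by
    let f : Fin t ≃ ι := (Equiv.sigmaUnique (Fin t) fun _ => Fin 1).symm.trans e.symm
    refine conj_mp_mem hD hP π (f.trans (π.trans f.symm)) (fun i => ?_) c
    have h : ∀ r, f (e r).1 = r := by
      intro r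
      show e.symm _ = r
      rw [Equiv.symm_apply_eq]
      exact Sigma.ext rfl (heq_of_eq (Subsingleton.elim _ _))
    rw [Equiv.trans_apply, Equiv.trans_apply, h, Equiv.eq_symm_apply, h]
  set M' := M.comap (MulAut.conj P).toMonoidHom with hM'
  have hmem : ∀ h : GL ι F, h ∈ M' ↔ P * h * P⁻¹ ∈ M := fun h => by
    rw [hM', Subgroup.mem_comap]; rfl
  have hdetc : ∀ h : GL ι F, (((P * h * P⁻¹ : GL ι F)) : Matrix ι ι F).det =
      (h : Matrix ι ι F).det := fun h => by
    rw [Units.val_mul, Units.val_mul, det_mul, det_mul,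
      mul_right_comm, ← det_mul, ← Units.val_mul, mul_inv_cancel, Units.val_one, det_one, one_mul]
  have hmp : ∀ σ c, (mp σ c : Matrix ι ι F).det = 1 → mp σ c ∈ M' := fun σ c hd =>
    (hmem _).2 (hSM ⟨hconj σ c, mem_specialLinear_iff.2 (by rw [hdetc, hd])⟩)
  have hSL' : M' ≤ Geo.specialLinear ι F := fun h hh => by
    rw [mem_specialLinear_iff, ← hdetc]
    exact mem_specialLinear_iff.1 (hSL ((hmem h).1 hh))
  set G := M' ⊔ Geo.scalars ι F with hG
  have hmpG : ∀ σ c x, (mp σ c : Matrix ι ι F).det = x ^ 3 → mp σ c ∈ G := by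
    intro σ c x hx
    have hx0 : x ≠ 0 := fun e => by
      rw [e, zero_pow (by norm_num), mp_det] at hx
      refine mul_ne_zero (Finset.prod_ne_zero_iff.2 fun i _ => (c i).ne_zero) ?_ hx
      rcases Int.units_eq_one_or (Equiv.Perm.sign σ) with h | h <;> simp [h]
    set u := Units.mk0 x hx0 with hu
    set z : GL ι F := Units.map (Matrix.scalar ι : F →+* Matrix ι ι F).toMonoidHom u
    have hz : ∀ v, (z : Matrix ι ι F) *ᵥ v = x • v := fun v => by
      show Matrix.scalar ι x *ᵥ v = _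
      ext s; simp [Matrix.mulVec_diagonal]
    have e : mp σ c = mp σ (fun s => c s / u) * z := gl_ext fun v => by
      ext s
      rw [mul_mulVec, hz, mp_apply, mp_apply]
      simp [hu]
      field_simp
    rw [e]
    refine Subgroup.mul_mem_sup (hmp _ _ ?_) ⟨_, rfl⟩
    rw [mp_det] at hx ⊢
    simp only [Units.val_div_eq_div_val, Finset.prod_div_distrib, Finset.prod_const,
      Finset.card_univ, hι, hu, Units.val_mk0]
    rw [div_mul_eq_mul_div, hx, div_self (pow_ne_zero _ hx0)]
  obtain ⟨a, b, hab, s, hs, h0, hT⟩ := hasElem_three hmpG hι hq (g := P⁻¹ * g * P)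
    (Subgroup.mem_sup_left ((hmem _).2 (by simpa [mul_assoc] using hg))) fun hm => by
      obtain ⟨σ, c, h⟩ := isMono_eq_mp hm
      apply hgD
      have h2 := hconj σ c
      rw [← h] at h2
      simpa [mul_assoc] using h2
  obtain ⟨m, hmM, z, hz, hmz⟩ := Subgroup.mem_sup_of_normal_right.1 hT
  have hzM : z ∈ M' := by
    obtain ⟨u, hu⟩ := (Geo.mem_scalars_iff z).1 hz
    have hdz : (z : Matrix ι ι F).det = 1 := by
      have h1 := congrArg (fun w : GL ι F => (w : Matrix ι ι F).det) hmz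
      simp only [Units.val_mul, det_mul, mem_specialLinear_iff.1 (hSL' hmM), one_mul,
        mem_specialLinear_iff.1 (tv_mem_specialLinear _ _ h0)] at h1
      exact h1
    have e : z = mp 1 fun _ => u := gl_ext fun v => by
      ext r
      rw [mp_apply, hu, smul_mulVec, one_mulVec]
      rfl
    rw [e]; exact hmp _ _ (e ▸ hdz)
  have hle : Geo.specialLinear ι F ≤ M' :=
    specialLinear_le_of_hasElem hmp (by omega) ⟨a, b, hab, s, hs, h0, hmz ▸ M'.mul_mem hmM hzM⟩
  intro h hh
  have h1 : P⁻¹ * h * P ∈ M' := hle (by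
    rw [mem_specialLinear_iff, ← hdetc, show P * (P⁻¹ * h * P) * P⁻¹ = h by group]
    exact mem_specialLinear_iff.1 hh)
  rw [hmem] at h1
  simpa [mul_assoc] using h1

/-- Clause (2) for `SL_3`. -/
theorem decomp_maximal_three [Fintype F] (hq : 5 ≤ Fintype.card F)
    (D : Fin 3 → Submodule F (Fin 3 → F)) (hD : Geo.IsMDecomposition 1 D) :
    Geo.IsMaximalIn (Geo.specialLinear (Fin 3) F)
      (Geo.decompositionStabilizer D ⊓ Geo.specialLinear (Fin 3) F) := by
  classical
  refine ⟨lt_of_le_of_ne inf_le_right ?_, fun M hSM hMSL => ?_⟩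
  · intro hEq
    set a := blockBasis D hD ⟨0, 0⟩
    set c := blockBasis D hD ⟨1, 0⟩
    have h0 : crdVec hD ⟨1, 0⟩ ⬝ᵥ a = 0 := by
      rw [crdVec_dot, crd_basis, if_neg]
      intro e
      exact absurd (congrArg Sigma.fst e) (by decide)
    have hmem : tv a _ h0 ∈ Geo.decompositionStabilizer D :=
      (hEq.symm ▸ tv_mem_specialLinear _ _ _ :
        tv a _ h0 ∈ Geo.decompositionStabilizer D ⊓ Geo.specialLinear (Fin 3) F).1
    refine not_mem_decompositionStabilizer hD (blockBasis_mem hD ⟨1, 0⟩)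
      (by decide : (0 : Fin 3) ≠ 1) (ja := 0) (jb := 0) ?_ ?_ hmem
    · rw [tv_mulVec, crdVec_dot, crd_basis, if_pos rfl, one_smul, crd_add, crd_basis, crd_basis,
        if_neg (fun e => absurd (congrArg Sigma.fst e) (by decide)), if_pos rfl, zero_add]
      exact one_ne_zero
    · rw [tv_mulVec, crdVec_dot, crd_basis, if_pos rfl, one_smul, crd_add, crd_basis, crd_basis,
        if_pos rfl, if_neg (fun e => absurd (congrArg Sigma.fst e) (by decide)), add_zero]
      exact one_ne_zero
  by_cases hMS : M ≤ Geo.decompositionStabilizer D ⊓ Geo.specialLinear (Fin 3) F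
  · exact Or.inl (le_antisymm hMS hSM)
  obtain ⟨g, hgM, hgS⟩ := SetLike.not_le_iff_exists.1 hMS
  exact Or.inr (le_antisymm hMSL (specialLinear_le_of_lines_three hD hq (Fintype.card_fin 3) hSM
    hMSL hgM fun h => hgS ⟨h, hMSL hgM⟩))

end Cfsg.Agent.H26.SLThreeGeo
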