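import Cfsg.Agent.S5639

/-!
Subfield groups are maximal in `SL_3`.
-/

set_option autoImplicit false

open Cfsg

namespace Cfsg.Agent.H26.SLThreeGeo

open scoped MatrixGroups Matrix
open Matrix Cfsg.Agent.H95

variable {ι : Type} [Fintype ι] [DecidableEq ι] {F : Type*} [Field F]

set_option linter.unusedSectionVars false

attribute [-simp] Matrix.coe_units_inv

lemma frobenius_mem [Fintype F] {F₀ : Subfield F} {c : F} (hc : c ^ Nat.card F₀ = c) : c ∈ F₀ := by
  classical
  haveI : Fintype F₀ := Fintype.ofFinite _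
  rw [Nat.card_eq_fintype_card] at hc
  by_contra hcn
  have hq : 1 < Fintype.card F₀ := Fintype.one_lt_card
  set P : Polynomial F := Polynomial.X ^ Fintype.card F₀ - Polynomial.X with hP
  have hPd : P.natDegree = Fintype.card F₀ := FiniteField.X_pow_card_sub_X_natDegree_eq F hq
  have hP0 : P ≠ 0 := FiniteField.X_pow_card_sub_X_ne_zero F hq
  have hle : (insert c (Finset.univ.image fun x : F₀ => (x : F))).card ≤ P.natDegree := by
    refine Polynomial.card_le_degree_of_subset_roots fun x hx => ?_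
    rw [Polynomial.mem_roots hP0]
    have hev : x ^ Fintype.card F₀ = x := by
      rcases Finset.mem_insert.1 hx with rfl | hx'
      · exact hc
      · obtain ⟨y, -, rfl⟩ := Finset.mem_image.1 hx'
        rw [← SubmonoidClass.coe_pow, FiniteField.pow_card]
    simp [hP, hev]
  rw [Finset.card_insert_of_notMem (by simpa using fun h => hcn h),
    Finset.card_image_of_injective _ Subtype.val_injective, Finset.card_univ, hPd] at hle
  omega

/-- Coefficients of a rational vector at two independent rational vectors are rational. -/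
lemma coeff_mem [Fintype F] {F₀ : Subfield F} {b e : ι → F} (hb : IsRat F₀ b) (he : IsRat F₀ e)
    (hind : LinearIndependent F ![b, e]) {B D : F} (h : IsRat F₀ (B • b + D • e)) :
    B ∈ F₀ ∧ D ∈ F₀ := by
  haveI : Fintype F₀ := Fintype.ofFinite _
  set σ := FiniteField.frobeniusAlgHom F₀ F
  have hσ : ∀ c ∈ F₀, σ c = c := fun c hc => σ.commutes ⟨c, hc⟩
  have h1 : (σ B - B) • b + (σ D - D) • e = 0 := by
    ext t
    have := hσ _ (h t)
    simp only [Pi.add_apply, Pi.smul_apply, smul_eq_mul, map_add, map_mul, hσ _ (hb t),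
      hσ _ (he t)] at this
    simp only [Pi.add_apply, Pi.smul_apply, Pi.zero_apply, smul_eq_mul]
    linear_combination this
  obtain ⟨hB, hD⟩ := LinearIndependent.pair_iff.1 hind _ _ h1
  exact ⟨frobenius_mem (by rw [Nat.card_eq_fintype_card]; exact sub_eq_zero.1 hB),
    frobenius_mem (by rw [Nat.card_eq_fintype_card]; exact sub_eq_zero.1 hD)⟩

/-- The arithmetic: only `F_4` over `F_2`. -/
lemma card_four [Fintype F] {F₀ : Subfield F} {r : ℕ} (hr : r.Prime)
    (hcard : Fintype.card F = Nat.card F₀ ^ r) {c : F} (hc : c ∉ F₀)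
    (hk : ∀ k ∈ F₀, k ≠ 0 → ∃ E ∈ F₀, c ^ 2 + E * c ∈ F₀ ∧ (1 / k - E - c) ^ 3 ∈ F₀) :
    Fintype.card F = 4 := by
  classical
  haveI : Fintype F₀ := Fintype.ofFinite _
  obtain ⟨E, hE, hQ, h13⟩ := hk 1 F₀.one_mem one_ne_zero
  set Q := c ^ 2 + E * c with hQd
  have huniq : ∀ E' ∈ F₀, c ^ 2 + E' * c ∈ F₀ → E' = E := by
    intro E' hE' h'
    by_contra hne
    apply hc
    have h2 : (E' - E) * c ∈ F₀ := by
      have := F₀.sub_mem h' hQ
      rwa [hQd, show c ^ 2 + E' * c - (c ^ 2 + E * c) = (E' - E) * c by ring] at this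
    have := F₀.mul_mem (F₀.inv_mem (F₀.sub_mem hE' hE)) h2
    rwa [← mul_assoc, inv_mul_cancel₀ (sub_ne_zero.2 hne), one_mul] at this
  -- the coefficient of `c` in a rational cube
  have hzero : ∀ y ∈ F₀, y + E ≠ 0 → 3 * y ^ 2 + 3 * y * E + (Q + E ^ 2) = 0 := by
    intro y hy hyE
    obtain ⟨E', hE', hQ', h3⟩ := hk (1 / (y + E)) (F₀.div_mem F₀.one_mem (F₀.add_mem hy hE))
      (one_div_ne_zero hyE)
    rw [huniq E' hE' hQ', one_div_one_div, add_sub_cancel_right] at h3
    by_contra hne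
    apply hc
    have hR : y ^ 3 + 3 * y * Q + E * Q ∈ F₀ :=
      F₀.add_mem (F₀.add_mem (F₀.pow_mem hy 3) (F₀.mul_mem (F₀.mul_mem (ofNat_mem F₀ 3) hy) hQ))
        (F₀.mul_mem hE hQ)
    have hne' : 3 * y ^ 2 + 3 * y * E + (Q + E ^ 2) ∈ F₀ :=
      F₀.add_mem (F₀.add_mem (F₀.mul_mem (ofNat_mem F₀ 3) (F₀.pow_mem hy 2))
        (F₀.mul_mem (F₀.mul_mem (ofNat_mem F₀ 3) hy) hE)) (F₀.add_mem hQ (F₀.pow_mem hE 2))
    have h2 := F₀.mul_mem (F₀.inv_mem hne') (F₀.sub_mem hR h3)
    have e : y ^ 3 + 3 * y * Q + E * Q - (y - c) ^ 3 =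
        (3 * y ^ 2 + 3 * y * E + (Q + E ^ 2)) * c := by rw [hQd]; ring
    rwa [e, ← mul_assoc, inv_mul_cancel₀ hne, one_mul] at h2
  have h30 : (3 : F) ≠ 0 := by
    intro h3
    apply hc
    obtain ⟨y, hy, hyE⟩ : ∃ y ∈ F₀, y + E ≠ 0 := by
      by_cases h : E = 0
      · exact ⟨1, F₀.one_mem, by simp [h]⟩
      · exact ⟨0, F₀.zero_mem, by simpa using h⟩
    have h1 := hzero y hy hyE
    have h2 : (c - E) ^ 2 = 0 := by rw [hQd] at h1; linear_combination h1 - (y ^ 2 + y * E + c * E) * h3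
    rw [pow_eq_zero_iff two_ne_zero, sub_eq_zero] at h2
    exact h2 ▸ hE
  by_cases hE0 : E = 0
  · subst hE0
    exfalso
    have hQ1 : Q = -3 := by
      have := hzero 1 F₀.one_mem (by simp)
      linear_combination this
    have hsq : ∀ y ∈ F₀, y ≠ 0 → y = 1 ∨ y = -1 := by
      intro y hy hy0
      have := hzero y hy (by simpa using hy0)
      rw [hQ1] at this
      refine sq_eq_one_iff.1 (mul_left_cancel₀ h30 ?_)
      linear_combination this
    by_cases h2 : (2 : F) = 0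
    · apply hc
      have e : (c - 1) ^ 2 = 0 := by
        rw [hQd] at hQ1; linear_combination hQ1 - (c + 1) * h2
      rw [pow_eq_zero_iff two_ne_zero, sub_eq_zero] at e
      exact e ▸ F₀.one_mem
    · rcases hsq 2 (ofNat_mem F₀ 2) h2 with h | h
      · exact one_ne_zero (by linear_combination h)
      · exact h30 (by linear_combination h)
  have hQ2 : Q = -E ^ 2 := by
    have := hzero 0 F₀.zero_mem (by simpa using hE0)
    linear_combination this
  have hall : ∀ y ∈ F₀, y = 0 ∨ y = -E := by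
    intro y hy
    by_contra hcon
    push Not at hcon
    have h1 := hzero y hy fun e => hcon.2 (eq_neg_of_add_eq_zero_left e)
    rw [hQ2] at h1
    have h2 : y * (y + E) = 0 := mul_left_cancel₀ h30 (by linear_combination h1)
    rcases mul_eq_zero.1 h2 with h | h
    · exact hcon.1 h
    · exact hcon.2 (eq_neg_of_add_eq_zero_left h)
  have h1E : E = -1 := by
    rcases hall 1 F₀.one_mem with h | h
    · exact absurd h one_ne_zero
    · linear_combination h
  subst h1E
  have h2 : (2 : F) = 0 := by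
    rcases hall (-1) (F₀.neg_mem F₀.one_mem) with h | h
    · exact absurd h (neg_ne_zero.2 one_ne_zero)
    · linear_combination -h
  have hc2 : c ^ 2 = c + 1 := by rw [hQd] at hQ2; linear_combination hQ2 - h2
  set R : Set F := {x | ∃ u ∈ F₀, ∃ v ∈ F₀, x = u + v * c} with hR
  rcases Cfsg.Agent.S5639.subfield_dichotomy F₀ hr hcard (R := R)
      (fun u hu => ⟨u, hu, 0, F₀.zero_mem, by ring⟩)
      (fun _ ⟨u, hu, v, hv, e⟩ _ ⟨u', hu', v', hv', e'⟩ =>
        ⟨u + u', F₀.add_mem hu hu', v + v', F₀.add_mem hv hv', by rw [e, e']; ring⟩)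
      (fun _ ⟨u, hu, v, hv, e⟩ _ ⟨u', hu', v', hv', e'⟩ =>
        ⟨u * u' + v * v', F₀.add_mem (F₀.mul_mem hu hu') (F₀.mul_mem hv hv'),
          u * v' + v * u' + v * v', F₀.add_mem (F₀.add_mem (F₀.mul_mem hu hv') (F₀.mul_mem hv hu'))
            (F₀.mul_mem hv hv'), by rw [e, e']; linear_combination v * v' * hc2⟩)
      (fun _ ⟨u, hu, v, hv, e⟩ => ⟨-u, F₀.neg_mem hu, -v, F₀.neg_mem hv, by rw [e]; ring⟩)
    with h | h
  · exact absurd (show c ∈ (F₀ : Set F) from h ▸ ⟨0, F₀.zero_mem, 1, F₀.one_mem, by ring⟩) hc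
  have hle : Fintype.card F ≤ Fintype.card (F₀ × F₀) :=
    Fintype.card_le_of_surjective (fun p : F₀ × F₀ => (p.1 : F) + (p.2 : F) * c) fun x => by
      obtain ⟨u, hu, v, hv, e⟩ : x ∈ R := h.symm ▸ Set.mem_univ x
      exact ⟨(⟨u, hu⟩, ⟨v, hv⟩), e.symm⟩
  have h2c : Fintype.card F₀ = 2 := by
    refine le_antisymm ?_ Fintype.one_lt_card
    rw [← Finset.card_univ, ← Finset.card_image_of_injective _ Subtype.val_injective]
    refine (Finset.card_le_card (t := ({0, -(-1)} : Finset F)) fun x hx => ?_).trans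
      Finset.card_le_two
    obtain ⟨y, -, rfl⟩ := Finset.mem_image.1 hx
    simpa using hall y.1 y.2
  rw [Fintype.card_prod, h2c] at hle
  rw [Nat.card_eq_fintype_card, h2c] at hcard
  have : 2 ^ 2 ≤ 2 ^ r := Nat.pow_le_pow_right (by norm_num) hr.two_le
  omega

lemma commute_of_fixed {α : Type*} [Fintype α] (h : Fintype.card α ≤ 3) (σ τ : Equiv.Perm α) {p : α}
    (hσ : σ p = p) (hτ : τ p = p) : σ * τ = τ * σ := by
  classical
  have key : ∀ n, n ≤ 3 → ∀ (a b : Equiv.Perm (Fin n)) (x : Fin n), a x = x → b x = x →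
      a * b = b * a := by
    intro n hn
    interval_cases n <;> decide
  set e := Fintype.equivFin α
  have h1 := key _ h (e.permCongr σ) (e.permCongr τ) (e p) (by simp [hσ]) (by simp [hτ])
  ext x
  have := congrArg (fun f : Equiv.Perm (Fin (Fintype.card α)) => f (e x)) h1
  simpa using this

lemma triangle (F₀ : Subfield F) {a b c : ι} (hab : a ≠ b) (hac : a ≠ c) (hbc : b ≠ c) :
    ∃ x y z : GL ι F, x ∈ baseGrp F₀ ι ⊓ Geo.specialLinear ι F ∧
      y ∈ baseGrp F₀ ι ⊓ Geo.specialLinear ι F ∧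
      (∃ h0, z = tv (Pi.single a 1) (Pi.single c 1) h0) ∧ z = x * y * x⁻¹ * y⁻¹ := by
  have h1 : Pi.single b (1 : F) ⬝ᵥ (Pi.single a 1 : ι → F) = 0 := by simp [hab.symm]
  have h2 : Pi.single c (1 : F) ⬝ᵥ (Pi.single b 1 : ι → F) = 0 := by simp [hbc.symm]
  have h3 : Pi.single c (1 : F) ⬝ᵥ (Pi.single a 1 : ι → F) = 0 := by simp [hac.symm]
  refine ⟨tv _ _ h1, tv _ _ h2, tv _ _ h3,
    ⟨tv_mem_baseGrp (isRat_single a F₀.one_mem) (isRat_single b F₀.one_mem) h1,
      tv_mem_specialLinear _ _ _⟩,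
    ⟨tv_mem_baseGrp (isRat_single b F₀.one_mem) (isRat_single c F₀.one_mem) h2,
      tv_mem_specialLinear _ _ _⟩, ⟨h3, rfl⟩, ?_⟩
  have hinv : ∀ (u φ : ι → F) h0, (tv u φ h0)⁻¹ = tv u (-φ) (by rw [neg_dotProduct, h0, neg_zero]) :=
    fun _ _ _ => Units.ext rfl
  refine gl_ext fun v => ?_
  rw [mul_mulVec, mul_mulVec, mul_mulVec, hinv, hinv]
  simp only [tv_mulVec, neg_dotProduct, dotProduct_add, dotProduct_smul, single_dotProduct_one,
    Pi.single_apply, smul_eq_mul]
  ext t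
  simp only [Pi.add_apply, Pi.smul_apply, Pi.single_apply, smul_eq_mul, hab, hac, hbc, hab.symm,
    hac.symm, hbc.symm, if_true, if_false]
  ring

section

variable [Fintype F] {F₀ : Subfield F} {M : Subgroup (GL ι F)}
  (hSM : baseGrp F₀ ι ⊓ Geo.specialLinear ι F ≤ M) (hMSL : M ≤ Geo.specialLinear ι F)
  (hroot : ∀ c ∈ rootSet M, c ∈ F₀) (hι : Fintype.card ι = 3)
include hSM hMSL hroot hι

/-- The exceptional field. -/
lemma mem_base_four (hF : Fintype.card F = 4) {r : ℕ} (hr : r.Prime)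
    (hcard : Fintype.card F = Nat.card F₀ ^ r) {g : GL ι F} (hg : g ∈ M) : g ∈ baseGrp F₀ ι := by
  classical
  haveI : Fintype F₀ := Fintype.ofFinite _
  rw [Nat.card_eq_fintype_card] at hcard
  have hq0 : Fintype.card F₀ = 2 := by
    have h1 : Fintype.card F₀ ^ 2 ≤ Fintype.card F₀ ^ r :=
      Nat.pow_le_pow_right (by have := Fintype.one_lt_card (α := F₀); omega) hr.two_le
    have h2 : 2 ≤ Fintype.card F₀ := Fintype.one_lt_card
    nlinarith
  have hunit : ∀ x ∈ F₀, x ≠ 0 → x = 1 := by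
    intro x hx hx0
    have := FiniteField.pow_card_sub_one_eq_one (⟨x, hx⟩ : F₀)
      (fun e => hx0 (congrArg Subtype.val e))
    rw [hq0] at this
    simpa using congrArg Subtype.val this
  obtain ⟨a, b, c, hab, hac, hbc⟩ : ∃ a b c : ι, a ≠ b ∧ a ≠ c ∧ b ≠ c := by
    obtain ⟨a, b, hab⟩ := Fintype.exists_pair_of_one_lt_card (α := ι) (by omega)
    obtain ⟨c, -, hc⟩ := Finset.exists_mem_notMem_of_card_lt_card
      (s := ({a, b} : Finset ι)) (t := Finset.univ)
      (lt_of_le_of_lt Finset.card_le_two (by rw [Finset.card_univ]; omega))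
    simp at hc
    exact ⟨a, b, c, hab, Ne.symm hc.1, Ne.symm hc.2⟩
  set S := (baseGrp F₀ ι).subgroupOf M with hS
  haveI : Finite (GL ι F) := inferInstance
  haveI : Fintype (M ⧸ S) := Fintype.ofFinite _
  -- the translates of the rational vectors are disjoint
  have hidx : Fintype.card (M ⧸ S) ≤ 3 := by
    let f : (M ⧸ S) × {v : ι → F₀ // v ≠ 0} × Fˣ → {v : ι → F // v ≠ 0} := fun p =>
      ⟨((p.1.out.1 : GL ι F) : Matrix ι ι F) *ᵥ ((p.2.2 : F) • fun i => ((p.2.1.1 i : F₀) : F)),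
        fun e => by
          have h1 := congrArg (fun w => (((p.1.out.1)⁻¹ : GL ι F) : Matrix ι ι F) *ᵥ w) e
          simp only [inv_mulVec_mulVec, mulVec_zero, smul_eq_zero] at h1
          exact p.2.1.2 (funext fun i =>
            Subtype.ext (congrFun (h1.resolve_left p.2.2.ne_zero) i))⟩
    have hf : Function.Injective f := by
      rintro ⟨C, v, l⟩ ⟨C', v', l'⟩ h
      have h1 := congrArg Subtype.val h
      simp only [f] at h1
      rw [← mulVec_inv_mulVec C'.out.1 ((C.out.1 : Matrix ι ι F) *ᵥ _)] at h1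
      have h2 := gl_mulVec_injective _ h1
      rw [← mul_mulVec, mulVec_smul] at h2
      have hv : IsRat F₀ (fun i => ((v.1 i : F₀) : F)) := fun i => (v.1 i).2
      have hv' : IsRat F₀ (fun i => ((v'.1 i : F₀) : F)) := fun i => (v'.1 i).2
      have hv0 : (fun i => ((v.1 i : F₀) : F)) ≠ 0 := fun e => v.2 (funext fun i =>
        Subtype.ext (congrFun e i))
      have hmem : C'.out.1⁻¹ * C.out.1 ∈ baseGrp F₀ ι := by
        refine mem_base_of_line hSM hroot (by omega) (M.mul_mem (M.inv_mem C'.out.2) C.out.2) hv hv0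
          hv' (μ := (l : F)⁻¹ * (l' : F)) ?_
        rw [← smul_smul, ← h2, smul_smul, inv_mul_cancel₀ l.ne_zero, one_smul]
      have hC : C' = C := by
        rw [← QuotientGroup.out_eq' C', ← QuotientGroup.out_eq' C, QuotientGroup.eq]
        exact hmem
      subst hC
      rw [inv_mul_cancel, Units.val_one, one_mulVec] at h2
      have heq : ∀ i, (l : F) * (v.1 i : F) = (l' : F) * (v'.1 i : F) := fun i => congrFun h2 i
      obtain ⟨i, hi⟩ := Function.ne_iff.1 hv0
      rw [Pi.zero_apply] at hi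
      have hi' : ((v'.1 i : F₀) : F) ≠ 0 := fun e => by
        have := heq i
        rw [e, mul_zero, mul_eq_zero] at this
        exact hi (this.resolve_left l.ne_zero)
      have hll : (l : F) = l' := by
        have := heq i
        rwa [hunit _ (v.1 i).2 hi, hunit _ (v'.1 i).2 hi', mul_one, mul_one] at this
      have hl : l = l' := Units.ext hll
      subst hl
      rw [show v = v' from Subtype.ext (funext fun i => Subtype.ext
        (mul_left_cancel₀ l.ne_zero (heq i)))]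
    have h := Fintype.card_le_of_injective f hf
    simp only [Fintype.card_prod, Fintype.card_subtype_compl, Fintype.card_subtype_eq,
      Fintype.card_fun, Fintype.card_units, hq0, hF, hι] at h
    omega
  obtain ⟨x, y, z, hx, hy, ⟨hz0, hz⟩, hzc⟩ := triangle F₀ hab hac hbc
  set ψ := MulAction.toPermHom M (M ⧸ S)
  have hfix : ∀ w : M, (w : GL ι F) ∈ baseGrp F₀ ι →
      ψ w ((1 : M) : M ⧸ S) = ((1 : M) : M ⧸ S) := by
    intro w hw
    show w • ((1 : M) : M ⧸ S) = _
    rw [MulAction.Quotient.smul_coe, QuotientGroup.eq]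
    simpa [hS, Subgroup.mem_subgroupOf] using (baseGrp F₀ ι).inv_mem hw
  have hzM : z ∈ M := by
    rw [hzc]
    exact M.mul_mem (M.mul_mem (M.mul_mem (hSM hx) (hSM hy)) (M.inv_mem (hSM hx))) (M.inv_mem (hSM hy))
  have hker : ψ ⟨z, hzM⟩ = 1 := by
    have e : (⟨z, hzM⟩ : M) = ⟨x, hSM hx⟩ * ⟨y, hSM hy⟩ * (⟨x, hSM hx⟩)⁻¹ * (⟨y, hSM hy⟩)⁻¹ :=
      Subtype.ext hzc
    rw [e, map_mul, map_mul, map_mul, map_inv, map_inv,
      commute_of_fixed hidx _ _ (hfix ⟨x, hSM hx⟩ hx.1) (hfix ⟨y, hSM hy⟩ hy.1)]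
    group
  have hconj : g⁻¹ * z * g ∈ baseGrp F₀ ι := by
    have h1 : ψ ⟨z, hzM⟩ ((⟨g, hg⟩ : M) : M ⧸ S) = ((⟨g, hg⟩ : M) : M ⧸ S) := by rw [hker]; rfl
    change (⟨z, hzM⟩ : M) • ((⟨g, hg⟩ : M) : M ⧸ S) = _ at h1
    rw [MulAction.Quotient.smul_coe, QuotientGroup.eq] at h1
    have h2 := S.inv_mem h1
    simpa [hS, Subgroup.mem_subgroupOf, mul_assoc] using h2
  -- the centre of the conjugate transvection is rational
  set u := ((g⁻¹ : GL ι F) : Matrix ι ι F) *ᵥ Pi.single a 1 with hu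
  set χ := (Pi.single c (1 : F) : ι → F) ᵥ* (g : Matrix ι ι F) with hχ
  obtain ⟨μ, hμ, ρ, hρ, hρe⟩ := exists_of_mem_baseGrp hconj
  have happly : ∀ v, ((g⁻¹ * z * g : GL ι F) : Matrix ι ι F) *ᵥ v = v + (χ ⬝ᵥ v) • u := by
    intro v
    rw [mul_mulVec, mul_mulVec, hz, tv_mulVec, mulVec_add, mulVec_smul, inv_mulVec_mulVec, hu, hχ,
      dotProduct_mulVec]
  have hχu : χ ⬝ᵥ u = 0 := by
    rw [hχ, ← dotProduct_mulVec, hu, mulVec_inv_mulVec, hz0]
  have h20 : (2 : F) = 0 := by
    rcases eq_or_ne (2 : F) 0 with h | h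
    · exact h
    · exfalso
      exact one_ne_zero (α := F) (by linear_combination hunit 2 (ofNat_mem F₀ 2) h)
  have hμ1 : μ = 1 := by
    have h1 : μ ^ 2 • (ρ *ᵥ (ρ *ᵥ (Pi.single a 1 : ι → F))) = Pi.single a 1 := by
      rw [pow_two, ← smul_smul, ← smul_mulVec, ← hρe, ← mulVec_smul, ← smul_mulVec, ← hρe, happly,
        happly, dotProduct_add, dotProduct_smul, hχu, smul_zero, add_zero, add_assoc, ← add_smul,
        ← two_mul, h20, zero_mul, zero_smul, add_zero]
    have h2 := congrFun h1 a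
    rw [Pi.smul_apply, Pi.single_eq_same, smul_eq_mul] at h2
    have hmem : (ρ *ᵥ (ρ *ᵥ (Pi.single a 1 : ι → F))) a ∈ F₀ := F₀.sum_mem fun s _ =>
      F₀.mul_mem (hρ a s) (F₀.sum_mem fun t _ => F₀.mul_mem (hρ s t) (isRat_single a F₀.one_mem t))
    rw [hunit _ hmem (fun e => by rw [e, mul_zero] at h2; exact zero_ne_one h2), mul_one] at h2
    have h3 : (μ - 1) ^ 2 = 0 := by linear_combination h2 - (μ - 1) * h20
    rwa [pow_eq_zero_iff two_ne_zero, sub_eq_zero] at h3
  obtain ⟨j, hj⟩ : ∃ j, χ j ≠ 0 := by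
    by_contra hcon
    push Not at hcon
    have := inv_mulVec_mulVec g (Pi.single c 1)
    have h1 : χ ᵥ* ((g⁻¹ : GL ι F) : Matrix ι ι F) = Pi.single c 1 := by
      rw [hχ, vecMul_vecMul, ← Units.val_mul, mul_inv_cancel, Units.val_one, vecMul_one]
    rw [show χ = 0 from funext hcon, zero_vecMul] at h1
    simpa using congrFun h1 c
  have hrat : IsRat F₀ (χ j • u) := by
    intro i
    have h1 := congrFun (happly (Pi.single j 1)) i
    rw [hρe, hμ1, one_smul, mulVec_single_one_apply, dotProduct_single, mul_one, Pi.add_apply] at h1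
    rw [show (χ j • u) i = ρ i j - (Pi.single j 1 : ι → F) i by rw [h1]; ring]
    exact F₀.sub_mem (hρ i j) (isRat_single j F₀.one_mem i)
  have := mem_base_of_line hSM hroot (by omega) (M.inv_mem hg) (isRat_single a F₀.one_mem)
    (by simp) hrat (μ := (χ j)⁻¹)
    (by rw [smul_smul, inv_mul_cancel₀ hj, one_smul])
  simpa using (baseGrp F₀ ι).inv_mem this

/-- If the root scalars are in the subfield, `M` is inside the subfield group. -/
theorem mem_base_three {r : ℕ} (hr : r.Prime) (hcard : Fintype.card F = Nat.card F₀ ^ r) {g : GL ι F}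
    (hg : g ∈ M) : g ∈ baseGrp F₀ ι := by
  classical
  have hn : 3 ≤ Fintype.card ι := by omega
  by_cases hF : Fintype.card F = 4
  · exact mem_base_four hSM hMSL hroot hι hF hr hcard hg
  by_contra hgS
  haveI : Nonempty ι := Fintype.card_pos_iff.1 (by omega)
  obtain ⟨i0⟩ := ‹Nonempty ι›
  obtain ⟨φ₀, hφ₀, hφ₀0, hφ₀i, -⟩ := exists_rat_perp2 (F₀ := F₀) hn (isRat_single i0 F₀.one_mem)
    (isRat_single i0 F₀.one_mem)
  set a₀ : ι → F := Pi.single i0 1 with ha₀
  have hT := (inTv_rat hSM (isRat_single i0 F₀.one_mem) hφ₀ hφ₀i).conj hg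
  set a := (g : Matrix ι ι F) *ᵥ a₀ with ha
  set φ := φ₀ ᵥ* ((g⁻¹ : GL ι F) : Matrix ι ι F) with hφ
  have hφ0 : φ ≠ 0 := by
    intro e
    apply hφ₀0
    have := congrArg (fun v => v ᵥ* (g : Matrix ι ι F)) e
    simpa [hφ, vecMul_vecMul, ← Units.val_mul] using this
  have ha0 : a ≠ 0 := fun e => by
    have := congrFun (inv_mulVec_mulVec g a₀) i0
    rw [← ha, e, mulVec_zero, ha₀] at this
    simp at this
  obtain ⟨j, i, hj, hij⟩ : ∃ j i, φ j ≠ 0 ∧ φ i / φ j ∉ F₀ := by
    by_contra hcon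
    push Not at hcon
    obtain ⟨j, hj⟩ := Function.ne_iff.1 hφ0
    rw [Pi.zero_apply] at hj
    set η : ι → F := fun s => φ s / φ j
    have hη : IsRat F₀ η := fun s => hcon j s hj
    have e : φ = φ j • η := by ext s; simp [η, mul_div_cancel₀ _ hj]
    have hη0 : η ≠ 0 := fun h0 => hj (by
      have := congrFun h0 j
      simpa [η, hj] using this)
    rw [e] at hT
    have h0 := hT.1
    rw [smul_dotProduct, smul_eq_mul] at h0
    have hrat := centre_rat hSM hroot hn hη hη0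
      (inTv_smul_left hT ((mul_eq_zero.1 h0).resolve_left hj))
    refine hgS (mem_base_of_line hSM hroot hn hg (μ := (φ j)⁻¹) (isRat_single i0 F₀.one_mem)
      (by simp) hrat ?_)
    rw [smul_smul, inv_mul_cancel₀ hj, one_smul]
  have hji : i ≠ j := by
    rintro rfl
    exact hij (by rw [div_self hj]; exact F₀.one_mem)
  have hi : φ i ≠ 0 := fun e => hij (by rw [e, zero_div]; exact F₀.zero_mem)
  obtain ⟨k, -, hkk⟩ := Finset.exists_mem_notMem_of_card_lt_card
    (s := ({i, j} : Finset ι)) (t := Finset.univ)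
    (lt_of_le_of_lt Finset.card_le_two (by rw [Finset.card_univ]; omega))
  simp at hkk
  obtain ⟨ψ, b, e, hψ, hb, he, hψa, hψb, hψe, hφb, hec⟩ : ∃ ψ b e, IsRat F₀ ψ ∧ IsRat F₀ b ∧
      IsRat F₀ e ∧ ψ ⬝ᵥ a ≠ 0 ∧ ψ ⬝ᵥ b = 0 ∧ ψ ⬝ᵥ e = 0 ∧ φ ⬝ᵥ b ≠ 0 ∧
      φ ⬝ᵥ e / φ ⬝ᵥ b ∉ F₀ := by
    have hdot : ∀ (s : ι) (v : ι → F), v ⬝ᵥ Pi.single s 1 = v s := fun s v => by simp
    have hcov : ∀ w : ι → F, IsRat F₀ w → ∀ t, IsRat F₀ (Pi.single t (1 : F) + w) := fun w hw t =>
      (isRat_single t F₀.one_mem).add hw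
    by_cases hka : a k ≠ 0
    · refine ⟨Pi.single k 1, Pi.single j 1, Pi.single i 1, isRat_single _ F₀.one_mem,
        isRat_single _ F₀.one_mem, isRat_single _ F₀.one_mem, by simpa using hka,
        by simp [Ne.symm hkk.2], by simp [Ne.symm hkk.1], by simpa using hj, by simpa using hij⟩
    push Not at hka
    have hsum : φ i * a i + φ j * a j = 0 := by
      have h0 := hT.1
      rwa [dotProduct, Finset.sum_eq_add i j hji (fun s _ hs => ?_) (by simp) (by simp)] at h0
      have : s = k := by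
        by_contra hne
        have h1 := Finset.card_le_univ ({i, j, k, s} : Finset ι)
        rw [Finset.card_insert_of_notMem (by simp [hji, Ne.symm hkk.1, Ne.symm hs.1]),
          Finset.card_insert_of_notMem (by simp [Ne.symm hkk.2, Ne.symm hs.2]),
          Finset.card_pair (Ne.symm hne), hι] at h1
        omega
      rw [this, hka, mul_zero]
    have huniv : ∀ s, s = i ∨ s = j ∨ s = k := by
      intro s
      by_contra hcon
      push Not at hcon
      have h1 := Finset.card_le_univ ({i, j, k, s} : Finset ι)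
      rw [Finset.card_insert_of_notMem (by simp [hji, Ne.symm hkk.1, Ne.symm hcon.1]),
        Finset.card_insert_of_notMem (by simp [Ne.symm hkk.2, Ne.symm hcon.2.1]),
        Finset.card_pair (Ne.symm hcon.2.2), hι] at h1
      omega
    have hai : a i ≠ 0 ∧ a j ≠ 0 := by
      constructor <;> intro e' <;> rw [e', mul_zero] at hsum <;> simp [hi, hj] at hsum <;>
        apply ha0 <;> ext s <;> rcases huniv s with rfl | rfl | rfl <;> assumption
    -- a rational covector through `a i`, with kernel containing an irrational point of `φ`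
    by_cases hkj : φ k / φ j ∈ F₀
    · rcases eq_or_ne (φ k) 0 with hk0 | hk0
      · refine ⟨Pi.single i 1 + Pi.single k 1, Pi.single j 1, Pi.single i 1 - Pi.single k 1,
          hcov _ (isRat_single _ F₀.one_mem) _, isRat_single _ F₀.one_mem, ?_, ?_, ?_, ?_,
          by simpa using hj, ?_⟩
        · intro s
          exact F₀.sub_mem (isRat_single i F₀.one_mem s) (isRat_single k F₀.one_mem s)
        · simp [add_dotProduct, hka, hai.1]
        · simp [Ne.symm hji, Ne.symm hkk.2]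
        · simp [add_dotProduct, dotProduct_sub, hkk.1, Ne.symm hkk.1]
        · simp [dotProduct_sub, hk0]
          exact hij
      · refine ⟨Pi.single j 1, Pi.single k 1, Pi.single i 1, isRat_single _ F₀.one_mem,
          isRat_single _ F₀.one_mem, isRat_single _ F₀.one_mem, by simpa using hai.2,
          by simp [hkk.2], by simp [hji], by simpa using hk0, ?_⟩
        simp only [hdot]
        intro hmem
        exact hij (by
          have := F₀.mul_mem hmem hkj
          rwa [div_mul_div_cancel₀ hk0] at this)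
    · exact ⟨Pi.single i 1, Pi.single j 1, Pi.single k 1, isRat_single _ F₀.one_mem,
        isRat_single _ F₀.one_mem, isRat_single _ F₀.one_mem, by simpa using hai.1,
        by simp [Ne.symm hji], by simp [hkk.1], by simpa using hj, by simpa using hkj⟩
  set c := φ ⬝ᵥ e / φ ⬝ᵥ b with hc
  apply hF
  refine card_four hr hcard hec fun t ht ht0 => ?_
  have hb0 : b ≠ 0 := fun e' => hφb (by rw [e', dotProduct_zero])
  set b₂ := b + t • e with hb2d
  have hb2 : IsRat F₀ b₂ := hb.add (he.smul ht)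
  have hψb2 : ψ ⬝ᵥ b₂ = 0 := by
    rw [hb2d, dotProduct_add, dotProduct_smul, hψb, hψe, smul_zero, add_zero]
  have hφb2 : φ ⬝ᵥ b₂ ≠ 0 := by
    rw [hb2d, dotProduct_add, dotProduct_smul, smul_eq_mul]
    intro h0
    apply hec
    have : c = -1 / t := by rw [hc, div_eq_div_iff hφb ht0]; linear_combination h0
    rw [this]
    exact F₀.div_mem (F₀.neg_mem F₀.one_mem) ht
  obtain ⟨d₁, hd1, κ₁, hd1b, hd1z⟩ := exists_move_line hSM (inTv_rat hSM hb hψ hψb) hT hψa hφb
  obtain ⟨d₂, hd2, κ₂, hd2b, hd2z⟩ := exists_move_line hSM (inTv_rat hSM hb2 hψ hψb2) hT hψa hφb2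
  have hmem : ∀ (d : GL ι F) (b' : ι → F) (κ : F), d ∈ M → IsRat F₀ b' → b' ≠ 0 →
      (d : Matrix ι ι F) *ᵥ b' = κ • a → g⁻¹ * d ∈ baseGrp F₀ ι := by
    intro d b' κ hd hb' hb'0 hdb'
    refine mem_base_of_line hSM hroot hn (M.mul_mem (M.inv_mem hg) hd) hb' hb'0
      (isRat_single i0 F₀.one_mem) (μ := κ) ?_
    rw [mul_mulVec, hdb', mulVec_smul, ha, inv_mulVec_mulVec]
  have hb20 : b₂ ≠ 0 := fun e' => hφb2 (by rw [e', dotProduct_zero])
  have hs : d₂⁻¹ * d₁ ∈ baseGrp F₀ ι := by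
    have := Subgroup.mul_mem _ (Subgroup.inv_mem _ (hmem d₂ b₂ κ₂ hd2 hb2 hb20 hd2b))
      (hmem d₁ b κ₁ hd1 hb hb0 hd1b)
    rwa [_root_.mul_inv_rev, inv_inv, mul_assoc, mul_inv_cancel_left] at this
  obtain ⟨μ, hμ, ρ, hρ, hρe⟩ := exists_of_mem_baseGrp hs
  set s := d₂⁻¹ * d₁ with hsdef
  set z := e - c • b with hzd
  have hzφ : φ ⬝ᵥ z = 0 := by
    rw [hzd, dotProduct_sub, dotProduct_smul, hc, smul_eq_mul, div_mul_cancel₀ _ hφb, sub_self]
  have hzψ : ψ ⬝ᵥ z = 0 := by
    rw [hzd, dotProduct_sub, dotProduct_smul, hψe, hψb, smul_zero, sub_zero]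
  have hsz : (s : Matrix ι ι F) *ᵥ z = z := by
    rw [hsdef, mul_mulVec, hd1z z hzψ hzφ]
    conv_lhs => rw [← hd2z z hzψ hzφ]
    rw [inv_mulVec_mulVec]
  have hκ₂ : κ₂ ≠ 0 := fun e' => hb20 (by
    rw [← inv_mulVec_mulVec d₂ b₂, hd2b, e', zero_smul, mulVec_zero])
  have hκ₁ : κ₁ ≠ 0 := fun e' => hb0 (by
    rw [← inv_mulVec_mulVec d₁ b, hd1b, e', zero_smul, mulVec_zero])
  have hsb : (s : Matrix ι ι F) *ᵥ b = (κ₁ / κ₂) • b₂ := by
    rw [hsdef, mul_mulVec, hd1b, ← div_mul_cancel₀ κ₁ hκ₂, ← smul_smul, ← hd2b, mulVec_smul,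
      inv_mulVec_mulVec, div_mul_cancel₀ κ₁ hκ₂]
  set θ := μ⁻¹ with hθ
  have hθ3 : θ ^ 3 ∈ F₀ := by
    have hdet : μ ^ 3 * ρ.det = 1 := by
      have h1 : (s : Matrix ι ι F).det = 1 :=
        mem_specialLinear_iff.1 (hMSL (M.mul_mem (M.inv_mem hd2) hd1))
      rwa [hρe, det_smul, hι] at h1
    rw [hθ, inv_pow, inv_eq_of_mul_eq_one_right hdet, Matrix.det_apply]
    refine F₀.sum_mem fun σ _ => ?_
    rcases Int.units_eq_one_or (Equiv.Perm.sign σ) with h | h <;> simp only [h, one_smul,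
      Units.neg_smul] <;>
      first
      | exact F₀.prod_mem fun r _ => hρ _ _
      | exact F₀.neg_mem (F₀.prod_mem fun r _ => hρ _ _)
  set A := θ * (κ₁ / κ₂) with hA
  have hA0 : A ≠ 0 := mul_ne_zero (inv_ne_zero hμ) (div_ne_zero hκ₁ hκ₂)
  have hρv : ∀ v, ρ *ᵥ v = θ • ((s : Matrix ι ι F) *ᵥ v) := fun v => by
    rw [hρe, smul_mulVec, smul_smul, hθ, inv_mul_cancel₀ hμ, one_smul]
  have hρrat : ∀ v, IsRat F₀ v → IsRat F₀ (ρ *ᵥ v) := fun v hv u =>
    F₀.sum_mem fun w _ => F₀.mul_mem (hρ u w) (hv w)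
  have hind : LinearIndependent F ![b, e] := by
    rw [LinearIndependent.pair_iff]
    intro x y hxy
    have h1 := congrArg (φ ⬝ᵥ ·) hxy
    simp only [dotProduct_add, dotProduct_smul, dotProduct_zero, smul_eq_mul] at h1
    have hy : y = 0 := by
      by_contra hy
      obtain ⟨w, hw⟩ := Function.ne_iff.1 hb0
      rw [Pi.zero_apply] at hw
      have h2 := congrFun hxy w
      simp only [Pi.add_apply, Pi.smul_apply, Pi.zero_apply, smul_eq_mul] at h2
      apply hec
      have : c = e w / b w := by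
        rw [hc, div_eq_div_iff hφb hw]
        refine mul_left_cancel₀ hy ?_
        linear_combination b w * h1 - φ ⬝ᵥ b * h2
      rw [this]
      exact F₀.div_mem (he w) (hb w)
    rw [hy, zero_smul, add_zero] at hxy
    exact ⟨(smul_eq_zero.1 hxy).resolve_right hb0, hy⟩
  have hρb : ρ *ᵥ b = A • b + (A * t) • e := by
    rw [hρv, hsb, smul_smul, ← hA, hb2d, smul_add, smul_smul]
  obtain ⟨hAF, -⟩ := coeff_mem hb he hind (hρb ▸ hρrat b hb)
  have hρe' : ρ *ᵥ e = (c * (A - θ)) • b + (θ + c * (A * t)) • e := by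
    have h1 : e = z + c • b := by rw [hzd, sub_add_cancel]
    conv_lhs => rw [h1]
    rw [mulVec_add, mulVec_smul, hρv z, hsz, hρb, hzd]
    ext u
    simp only [Pi.add_apply, Pi.sub_apply, Pi.smul_apply, smul_eq_mul]
    ring
  obtain ⟨hB, hD⟩ := coeff_mem hb he hind (hρe' ▸ hρrat e he)
  have hAt : A * t ∈ F₀ := F₀.mul_mem hAF ht
  refine ⟨(A - (θ + c * (A * t))) / (A * t), F₀.div_mem (F₀.sub_mem hAF hD) hAt, ?_, ?_⟩
  · convert F₀.div_mem hB hAt using 1
    field_simp
    ring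
  · convert F₀.div_mem hθ3 (F₀.pow_mem hAt 3) using 1
    field_simp
    ring

end

lemma standard_three [Fintype F] (F₀ : Subfield F) {r : ℕ} (hr : r.Prime)
    (hcard : Fintype.card F = Nat.card F₀ ^ r) (hι : Fintype.card ι = 3) :
    Geo.IsMaximalIn (Geo.specialLinear ι F) (baseGrp F₀ ι ⊓ Geo.specialLinear ι F) := by
  refine ⟨lt_of_le_of_ne inf_le_right ?_, fun M hSM hMSL => ?_⟩
  · intro hEq
    obtain ⟨c, hc⟩ : ∃ c : F, c ∉ F₀ := by
      by_contra hcon
      push Not at hcon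
      have : Nat.card F₀ = Fintype.card F := by
        rw [← Nat.card_eq_fintype_card]
        exact Nat.card_congr (Equiv.subtypeUnivEquiv hcon)
      rw [this] at hcard
      have h1 := Fintype.one_lt_card (α := F)
      exact hr.ne_one (Nat.pow_right_injective h1 (hcard.symm.trans (pow_one _).symm))
    obtain ⟨a, b, hab⟩ := Fintype.exists_pair_of_one_lt_card (α := ι) (by omega)
    have h0 : (c • Pi.single b 1 : ι → F) ⬝ᵥ Pi.single a 1 = 0 := by simp [hab]
    have hmem : tv (Pi.single a 1) (c • Pi.single b 1) h0 ∈ baseGrp F₀ ι :=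
      (hEq.symm ▸ tv_mem_specialLinear _ _ h0 :
        tv (Pi.single a 1) (c • Pi.single b 1) h0 ∈ baseGrp F₀ ι ⊓ Geo.specialLinear ι F).1
    obtain ⟨μ, hμ, ρ, hρ, he⟩ := exists_of_mem_baseGrp hmem
    have e1 : μ * ρ a b = c := by
      have := congrFun (congrFun he a) b
      simp [tvMat, vecMulVec_apply, hab] at this
      exact this.symm
    have e2 : μ * ρ a a = 1 := by
      have := congrFun (congrFun he a) a
      simp [tvMat, vecMulVec_apply, hab] at this
      exact this.symm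
    apply hc
    have : c = ρ a b / ρ a a := by
      rw [eq_div_iff (fun h => by rw [h, mul_zero] at e2; exact zero_ne_one e2), ← e1]
      linear_combination (ρ a b) * e2
    rw [this]
    exact F₀.div_mem (hρ a b) (hρ a a)
  obtain ⟨h1, h2, h3, h4⟩ := rootSet_closed (M := M) hSM (by omega)
  rcases Cfsg.Agent.S5639.subfield_dichotomy F₀ hr hcard h1 h2 h3 h4 with h | h
  · left
    refine le_antisymm (fun g hg => ⟨?_, hMSL hg⟩) hSM
    exact mem_base_three hSM hMSL (fun c hc => by rw [h] at hc; exact hc) hι hr hcard hg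
  · exact Or.inr (le_antisymm hMSL (Cfsg.Agent.S5639.specialLinear_le_of_rootSet h))

/-- Clause (4) for `SL_3`. -/
theorem subfield_maximal_three [Fintype F] (F₀ : Subfield F) (r : ℕ)
    (P : Matrix.GeneralLinearGroup (Fin 3) F) (hr : r.Prime)
    (hcard : Fintype.card F = Nat.card F₀ ^ r) :
    Geo.IsMaximalIn (Geo.specialLinear (Fin 3) F)
      (Geo.subfieldSubgroup F₀ P ⊓ Geo.specialLinear (Fin 3) F) := by
  obtain ⟨hlt, hmax⟩ := standard_three (ι := Fin 3) F₀ hr hcard (Fintype.card_fin 3)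
  set SL := Geo.specialLinear (Fin 3) F with hSL
  haveI : SL.Normal := by rw [hSL, Geo.specialLinear]; infer_instance
  set c : GL (Fin 3) F ≃* GL (Fin 3) F := MulAut.conj P with hc
  have hSLc : SL.map c.toMonoidHom = SL := by
    refine le_antisymm ?_ ?_
    · rintro _ ⟨x, hx, rfl⟩
      exact Subgroup.Normal.conj_mem inferInstance x hx P
    · intro x hx
      refine ⟨c.symm x, ?_, c.apply_symm_apply x⟩
      show P⁻¹ * x * P ∈ SL
      simpa using Subgroup.Normal.conj_mem inferInstance x hx P⁻¹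
  have hS : (baseGrp F₀ (Fin 3) ⊓ SL).map c.toMonoidHom = Geo.subfieldSubgroup F₀ P ⊓ SL := by
    rw [Subgroup.map_inf _ _ _ c.injective, hSLc]
    rfl
  rw [← hS]
  conv => congr; rw [← hSLc]
  refine ⟨(Subgroup.map_lt_map_iff_of_injective c.injective).2 hlt, fun M h1 h2 => ?_⟩
  have h1' : baseGrp F₀ (Fin 3) ⊓ SL ≤ M.comap c.toMonoidHom := Subgroup.map_le_iff_le_comap.1 h1
  have h2' : M.comap c.toMonoidHom ≤ SL := by
    intro x hx
    obtain ⟨y, hy, hxy⟩ := h2 hx
    rwa [c.injective hxy] at hy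
  have hM : (M.comap c.toMonoidHom).map c.toMonoidHom = M :=
    Subgroup.map_comap_eq_self_of_surjective c.surjective M
  rcases hmax _ h1' h2' with h | h
  · left; rw [← hM, h]
  · right; rw [← hM, h]

end Cfsg.Agent.H26.SLThreeGeo
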